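import Cfsg.Agent.Lib.Subnormal
import Cfsg.Agent.Lib.Components

/-!
# Two subnormal subgroups acting irreducibly on their commutators with a module

If `E = ⟨E₁, E₂⟩` acts faithfully on an elementary abelian `p`-group `V`, with `O_p(E) = 1`, `E_i`
subnormal and irreducible on `V_i = [V, E_i]`, neither `V_i` inside the other and `|E_i| > 2`, then
`E = E₁ × E₂` and `[V, E] = V₁ × V₂`.
-/

open Subgroup
open scoped commutatorElement

namespace CfsgLib.IrredSubnormal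

universe u

variable {G : Type u} [Group G]

/-- `cj x H = x H x⁻¹`. -/
def cj (x : G) (H : Subgroup G) : Subgroup G := H.map (MulAut.conj x).toMonoidHom

lemma mem_cj {x y : G} {H : Subgroup G} : y ∈ cj x H ↔ x⁻¹ * y * x ∈ H := by
  rw [cj, Subgroup.mem_map]
  constructor
  · rintro ⟨z, hz, rfl⟩
    simpa [MulAut.conj_apply, mul_assoc] using hz
  · intro h
    exact ⟨_, h, by simp [MulAut.conj_apply, mul_assoc]⟩

lemma conj_mem_cj {x y : G} {H : Subgroup G} (h : y ∈ H) : x * y * x⁻¹ ∈ cj x H :=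
  mem_cj.mpr (by simpa [mul_assoc] using h)

lemma cj_eq_self {x : G} {H : Subgroup G} (h : x ∈ normalizer (H : Set G)) : cj x H = H := by
  ext y
  rw [mem_cj]
  exact (Subgroup.mem_normalizer_iff''.mp h y).symm

lemma cj_cj (x y : G) (H : Subgroup G) : cj x (cj y H) = cj (x * y) H := by
  ext z
  rw [mem_cj, mem_cj, mem_cj, mul_inv_rev]
  simp only [mul_assoc]

lemma mem_normalizer_of_cj_eq {x : G} {H : Subgroup G} (h : cj x H = H) :
    x ∈ normalizer (H : Set G) :=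
  Subgroup.mem_normalizer_iff''.mpr fun y => by
    conv_lhs => rw [← h]
    exact mem_cj

lemma le_cj_normalizer {x : G} {A H : Subgroup G} (h : A ≤ normalizer (H : Set G)) :
    cj x A ≤ normalizer ((cj x H : Subgroup G) : Set G) :=
  (Subgroup.map_mono h).trans (Subgroup.le_normalizer_map _)

lemma cj_comm (x : G) (A B : Subgroup G) : cj x ⁅A, B⁆ = ⁅cj x A, cj x B⁆ :=
  Subgroup.map_commutator A B _

/-- Elements normalizing `V` and `U` which act trivially on `V ⧸ U`. -/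
def triv (V U : Subgroup G) : Subgroup G where
  carrier := {x | x ∈ normalizer (V : Set G) ∧ x ∈ normalizer (U : Set G) ∧ ∀ v ∈ V, ⁅v, x⁆ ∈ U}
  one_mem' := ⟨one_mem _, one_mem _, fun v _ => by simp⟩
  mul_mem' := fun {x y} hx hy => ⟨mul_mem hx.1 hy.1, mul_mem hx.2.1 hy.2.1, fun v hv => by
    rw [show ⁅v, x * y⁆ = ⁅v, x⁆ * (x * ⁅v, y⁆ * x⁻¹) by simp [commutatorElement_def, mul_assoc]]
    exact mul_mem (hx.2.2 v hv) ((Subgroup.mem_normalizer_iff.mp hx.2.1 _).mp (hy.2.2 v hv))⟩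
  inv_mem' := fun {x} hx => ⟨inv_mem hx.1, inv_mem hx.2.1, fun v hv => by
    rw [show ⁅v, x⁻¹⁆ = x⁻¹ * ⁅v, x⁆⁻¹ * x by simp [commutatorElement_def, mul_assoc]]
    exact (Subgroup.mem_normalizer_iff''.mp hx.2.1 _).mp (inv_mem (hx.2.2 v hv))⟩

lemma mem_triv {V U : Subgroup G} {x : G} : x ∈ triv V U ↔
    x ∈ normalizer (V : Set G) ∧ x ∈ normalizer (U : Set G) ∧ ∀ v ∈ V, ⁅v, x⁆ ∈ U := Iff.rfl

lemma triv_conj {V U : Subgroup G} {x g : G} (hx : x ∈ triv V U)
    (hgV : g ∈ normalizer (V : Set G)) (hgU : g ∈ normalizer (U : Set G)) :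
    g * x * g⁻¹ ∈ triv V U := by
  refine ⟨mul_mem (mul_mem hgV hx.1) (inv_mem hgV), mul_mem (mul_mem hgU hx.2.1) (inv_mem hgU),
    fun v hv => ?_⟩
  rw [show ⁅v, g * x * g⁻¹⁆ = g * ⁅g⁻¹ * v * g, x⁆ * g⁻¹ by
    simp [commutatorElement_def, mul_assoc]]
  exact (Subgroup.mem_normalizer_iff.mp hgU _).mp
    (hx.2.2 _ ((Subgroup.mem_normalizer_iff''.mp hgV v).mp hv))

variable {p : ℕ} [Fact p.Prime] {V : Subgroup G}

lemma pow_mem_centralizer (hV : Cfsg.IsElementaryAbelian p V) {U : Subgroup G} (hUV : U ≤ V)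
    {x : G} (hc : x ∈ centralizer (U : Set G)) (hx : x ∈ triv V U) :
    x ^ p ∈ centralizer (V : Set G) := by
  rw [Subgroup.mem_centralizer_iff]
  intro v hv
  have hu := hx.2.2 v hv
  have hxu : x * ⁅v, x⁆ = ⁅v, x⁆ * x := (Subgroup.mem_centralizer_iff.mp hc _ hu).symm
  have key : ∀ i : ℕ, v * x ^ i = ⁅v, x⁆ ^ i * x ^ i * v := by
    intro i
    induction i with
    | zero => simp
    | succ i ih =>
      have h2 : v * x = ⁅v, x⁆ * x * v := by simp [commutatorElement_def, mul_assoc]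
      have h3 : x ^ i * ⁅v, x⁆ = ⁅v, x⁆ * x ^ i := (Commute.pow_left hxu i).eq
      calc v * x ^ (i + 1) = ⁅v, x⁆ ^ i * x ^ i * (v * x) := by
            rw [pow_succ, ← mul_assoc, ih, mul_assoc]
        _ = ⁅v, x⁆ ^ i * (x ^ i * ⁅v, x⁆) * x * v := by rw [h2]; simp only [mul_assoc]
        _ = _ := by rw [h3, pow_succ ⁅v, x⁆, pow_succ x]; simp only [mul_assoc]
  rw [key p, hV.2 _ (hUV hu), one_mul]

/-- The situation of the statement, relative to the ambient group. -/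
structure Data (p : ℕ) (V E E₁ E₂ : Subgroup G) : Prop where
  hEV : E ≤ normalizer (V : Set G)
  hf : E ⊓ centralizer (V : Set G) = ⊥
  hgen : E = E₁ ⊔ E₂
  hs₁ : (E₁.subgroupOf E).IsSubnormal
  hs₂ : (E₂.subgroupOf E).IsSubnormal
  hOp : ∀ X : Subgroup G, X ≤ E → (X.subgroupOf E).IsSubnormal → IsPGroup p X → X = ⊥
  hirr₁ : ∀ U : Subgroup G, U ≤ ⁅V, E₁⁆ → E₁ ≤ normalizer (U : Set G) → U = ⊥ ∨ U = ⁅V, E₁⁆
  hirr₂ : ∀ U : Subgroup G, U ≤ ⁅V, E₂⁆ → E₂ ≤ normalizer (U : Set G) → U = ⊥ ∨ U = ⁅V, E₂⁆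
  h12 : ¬ ⁅V, E₁⁆ ≤ ⁅V, E₂⁆
  h21 : ¬ ⁅V, E₂⁆ ≤ ⁅V, E₁⁆
  hc₁ : 2 < Nat.card E₁
  hc₂ : 2 < Nat.card E₂

variable {E E₁ E₂ : Subgroup G}

lemma Data.symm (d : Data p V E E₁ E₂) : Data p V E E₂ E₁ :=
  ⟨d.hEV, d.hf, d.hgen.trans (sup_comm _ _), d.hs₂, d.hs₁, d.hOp, d.hirr₂, d.hirr₁, d.h21, d.h12, d.hc₂,
    d.hc₁⟩

lemma Data.le₁ (d : Data p V E E₁ E₂) : E₁ ≤ E := d.hgen ▸ le_sup_left
lemma Data.le₂ (d : Data p V E E₁ E₂) : E₂ ≤ E := d.hgen ▸ le_sup_right

lemma Data.comm_le (d : Data p V E E₁ E₂) : ⁅V, E₁⁆ ≤ V :=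
  (Subgroup.le_normalizer_iff_commutator_le_left.mp (d.le₁.trans d.hEV))

/-- The part of `E` stabilizing the series `V ≥ U ≥ 1` is trivial. -/
lemma Data.stab_eq_one (hV : Cfsg.IsElementaryAbelian p V) (d : Data p V E E₁ E₂) {U : Subgroup G}
    (hUV : U ≤ V) (hEU : E ≤ normalizer (U : Set G)) {x : G} (hxE : x ∈ E)
    (hc : x ∈ centralizer (U : Set G)) (hx : x ∈ triv V U) : x = 1 := by
  let S0 : Subgroup G := E ⊓ centralizer (U : Set G) ⊓ triv V U
  have hn : (S0.subgroupOf E).Normal := ⟨fun n hn g => by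
    obtain ⟨⟨hnE, hnc⟩, hnt⟩ : ((n : G) ∈ E ∧ (n : G) ∈ centralizer (U : Set G)) ∧
        (n : G) ∈ triv V U := hn
    refine ⟨⟨(g * n * g⁻¹).2, ?_⟩, triv_conj hnt (d.hEV g.2) (hEU g.2)⟩
    show (g : G) * n * (g : G)⁻¹ ∈ centralizer (U : Set G)
    rw [Subgroup.mem_centralizer_iff]
    intro u hu
    have h := Subgroup.mem_centralizer_iff.mp hnc _
      ((Subgroup.mem_normalizer_iff''.mp (hEU g.2) u).mp hu)
    calc u * ((g : G) * n * (g : G)⁻¹)
        = (g : G) * ((g : G)⁻¹ * u * g * n) * (g : G)⁻¹ := by simp [mul_assoc]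
      _ = (g : G) * (n * ((g : G)⁻¹ * u * g)) * (g : G)⁻¹ := by rw [h]
      _ = _ := by simp [mul_assoc]⟩
  have hp : IsPGroup p S0 := fun y => ⟨1, Subtype.ext (by
    have h1 : (y : G) ^ p ∈ E ⊓ centralizer (V : Set G) :=
      ⟨pow_mem y.2.1.1 p, pow_mem_centralizer hV hUV y.2.1.2 y.2.2⟩
    rw [d.hf, Subgroup.mem_bot] at h1
    simpa using h1)⟩
  have h := d.hOp S0 (inf_le_left.trans inf_le_left) hn.isSubnormal hp
  have : x ∈ S0 := ⟨⟨hxE, hc⟩, hx⟩
  rwa [h, Subgroup.mem_bot] at this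

/-- The conclusion. -/
def Concl (V E E₁ E₂ : Subgroup G) : Prop :=
  ⁅E₁, E₂⁆ = ⊥ ∧ E₁ ⊓ E₂ = ⊥ ∧ ⁅V, E₁⁆ ⊓ ⁅V, E₂⁆ = ⊥ ∧ ⁅V, E⁆ = ⁅V, E₁⁆ ⊔ ⁅V, E₂⁆

lemma cj_commutator_eq_of_commute {x : G} {A : Subgroup G} (hxV : x ∈ normalizer (V : Set G))
    (hxA : ∀ a ∈ A, x * a = a * x) : cj x ⁅V, A⁆ = ⁅V, A⁆ := by
  have hA : cj x A = A := by
    ext y
    rw [mem_cj]
    constructor
    · intro h
      have h2 := hxA _ h
      rw [← mul_assoc, ← mul_assoc, mul_inv_cancel, one_mul] at h2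
      rwa [mul_right_cancel h2]
    · intro h
      rwa [mul_assoc, ← hxA y h, inv_mul_cancel_left]
  rw [cj_comm, cj_eq_self hxV, hA]

/-- If `E₂` normalizes `[V, E₁]` the conclusion holds. -/
lemma Data.concl_of_normalizes (hV : Cfsg.IsElementaryAbelian p V) (d : Data p V E E₁ E₂)
    (hn : E₂ ≤ normalizer ((⁅V, E₁⁆ : Subgroup G) : Set G)) : Concl V E E₁ E₂ := by
  set V₁ := ⁅V, E₁⁆ with hV₁
  have hV1V : V₁ ≤ V := d.comm_le
  have hE1n : E₁ ≤ normalizer (V₁ : Set G) := Subgroup.normalizer_commutator_ge_right _ _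
  have hEn : E ≤ normalizer (V₁ : Set G) := d.hgen ▸ sup_le hE1n hn
  have hint : V₁ ⊓ ⁅V, E₂⁆ = ⊥ := by
    rcases d.hirr₂ (V₁ ⊓ ⁅V, E₂⁆) inf_le_right
      ((le_inf hn (Subgroup.normalizer_commutator_ge_right _ _)).trans
        (fun g hg => Subgroup.mem_normalizer_iff.mpr fun y => and_congr
          (Subgroup.mem_normalizer_iff.mp hg.1 y) (Subgroup.mem_normalizer_iff.mp hg.2 y))) with h | h
    · exact h
    · exact absurd (h ▸ inf_le_left) d.h21
  have hE2c : E₂ ≤ centralizer (V₁ : Set G) := by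
    refine Subgroup.commutator_eq_bot_iff_le_centralizer.mp ?_
    rw [eq_bot_iff, ← hint, Subgroup.commutator_comm]
    exact le_inf (Subgroup.le_normalizer_iff_commutator_le_left.mp hn)
      (Subgroup.commutator_mono hV1V le_rfl)
  have ht1 : E₁ ≤ triv V V₁ := fun x hx =>
    ⟨d.hEV (d.le₁ hx), hE1n hx, fun v hv => Subgroup.commutator_mem_commutator hv hx⟩
  have h1 : ⁅E₁, E₂⁆ = ⊥ := by
    rw [eq_bot_iff, Subgroup.commutator_le]
    intro a ha b hb
    rw [Subgroup.mem_bot]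
    refine d.stab_eq_one hV hV1V hEn ?_ ?_ ?_
    · rw [commutatorElement_def]
      exact mul_mem (mul_mem (mul_mem (d.le₁ ha) (d.le₂ hb)) (inv_mem (d.le₁ ha)))
        (inv_mem (d.le₂ hb))
    · rw [Subgroup.mem_centralizer_iff]
      intro u hu
      have hcb := Subgroup.mem_centralizer_iff.mp (hE2c hb)
      have hu' : a⁻¹ * u * a ∈ V₁ := (Subgroup.mem_normalizer_iff''.mp (hE1n ha) u).mp hu
      have e1 := hcb _ hu'
      have e2 := hcb _ hu
      calc u * ⁅a, b⁆ = a * ((a⁻¹ * u * a) * b) * a⁻¹ * b⁻¹ := by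
            simp [commutatorElement_def, mul_assoc]
        _ = a * (b * (a⁻¹ * u * a)) * a⁻¹ * b⁻¹ := by rw [e1]
        _ = a * b * a⁻¹ * (u * b⁻¹) := by simp [mul_assoc]
        _ = a * b * a⁻¹ * (b⁻¹ * u) := by
            congr 1
            exact (Commute.inv_right (show Commute u b from e2)).eq
        _ = ⁅a, b⁆ * u := by simp [commutatorElement_def, mul_assoc]
    · rw [show ⁅a, b⁆ = a * (b * a⁻¹ * b⁻¹) by simp [commutatorElement_def, mul_assoc]]
      exact mul_mem (ht1 ha)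
        (triv_conj (inv_mem (ht1 ha)) (d.hEV (d.le₂ hb)) (hn hb))
  refine ⟨h1, ?_, hint, ?_⟩
  · rw [eq_bot_iff]
    intro x hx
    exact d.stab_eq_one hV hV1V hEn (d.le₁ hx.1) (hE2c hx.2) (ht1 hx.1)
  · refine le_antisymm ?_ (sup_le (Subgroup.commutator_mono le_rfl d.le₁)
      (Subgroup.commutator_mono le_rfl d.le₂))
    have hcomm : ∀ a ∈ E₁, ∀ b ∈ E₂, a * b = b * a := fun a ha b hb =>
      (commutatorElement_eq_one_iff_mul_comm.mp (by
        rw [← Subgroup.mem_bot, ← h1]; exact Subgroup.commutator_mem_commutator ha hb))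
    have hnU : E ≤ normalizer ((V₁ ⊔ ⁅V, E₂⁆ : Subgroup G) : Set G) := by
      intro g hg
      refine mem_normalizer_of_cj_eq ?_
      have hg2 : g ∈ normalizer ((⁅V, E₂⁆ : Subgroup G) : Set G) := by
        refine (d.hgen ▸ sup_le ?_ (Subgroup.normalizer_commutator_ge_right _ _) :
          E ≤ normalizer ((⁅V, E₂⁆ : Subgroup G) : Set G)) hg
        exact fun a ha => mem_normalizer_of_cj_eq
          (cj_commutator_eq_of_commute (d.hEV (d.le₁ ha)) (hcomm a ha))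
      have e1 := cj_eq_self (hEn hg)
      have e2 := cj_eq_self hg2
      unfold cj at e1 e2 ⊢
      rw [Subgroup.map_sup, e1, e2]
    have hEt : E ≤ triv V (V₁ ⊔ ⁅V, E₂⁆) := by
      conv_lhs => rw [d.hgen]
      refine sup_le (fun x hx => ⟨d.hEV (d.le₁ hx), hnU (d.le₁ hx), fun v hv => ?_⟩)
        (fun x hx => ⟨d.hEV (d.le₂ hx), hnU (d.le₂ hx), fun v hv => ?_⟩)
      · exact (le_sup_left : V₁ ≤ _) (Subgroup.commutator_mem_commutator hv hx)
      · exact (le_sup_right : ⁅V, E₂⁆ ≤ _) (Subgroup.commutator_mem_commutator hv hx)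
    exact Subgroup.commutator_le.mpr fun v hv x hx => (hEt hx).2.2 v hv

lemma Concl.symm (h : Concl V E E₂ E₁) : Concl V E E₁ E₂ :=
  ⟨by rw [Subgroup.commutator_comm]; exact h.1, inf_comm E₁ E₂ ▸ h.2.1,
    inf_comm ⁅V, E₁⁆ ⁅V, E₂⁆ ▸ h.2.2.1, h.2.2.2.trans (sup_comm _ _)⟩

/-- The induction data for a conjugate of `E₁` moving `[V, E₁]`. -/
lemma Data.conj_pair [Finite G] (d : Data p V E E₁ E₂) {x : G} (hx : x ∈ E)
    (hmove : cj x ⁅V, E₁⁆ ≠ ⁅V, E₁⁆) :
    Data p V (E₁ ⊔ cj x E₁) E₁ (cj x E₁) ∧ Nat.card ↥(E₁ ⊔ cj x E₁) < Nat.card E := by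
  have hE1 := d.le₁
  have hxV := cj_eq_self (d.hEV hx)
  have hV2 : ⁅V, cj x E₁⁆ = cj x ⁅V, E₁⁆ := by rw [cj_comm, hxV]
  have hcle : cj x E₁ ≤ E := fun y hy => by
    have h := mem_cj.mp hy
    have h2 := mul_mem (mul_mem hx (hE1 h)) (inv_mem hx)
    simpa [mul_assoc] using h2
  have hs2 : ((cj x E₁).subgroupOf E).IsSubnormal := by
    have hmap := d.hs₁.map (f := (MulAut.conj (⟨x, hx⟩ : E)).toMonoidHom)
      (MulAut.conj (⟨x, hx⟩ : E)).surjective
    refine (congrArg Subgroup.IsSubnormal ?_).mp hmap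
    ext y
    rw [Subgroup.mem_map, Subgroup.mem_subgroupOf, mem_cj]
    constructor
    · rintro ⟨z, hz, rfl⟩
      simpa [MulAut.conj_apply, mul_assoc, Subgroup.mem_subgroupOf] using hz
    · intro h
      exact ⟨⟨x, hx⟩⁻¹ * y * ⟨x, hx⟩, h, by simp [MulAut.conj_apply, mul_assoc]⟩
  have hle : E₁ ⊔ cj x E₁ ≤ E := sup_le hE1 hcle
  have hsn : ((E₁ ⊔ cj x E₁).subgroupOf E).IsSubnormal := by
    rw [Subgroup.subgroupOf_sup hE1 hcle]
    exact CfsgLib.isSubnormal_sup d.hs₁ hs2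
  have hcard : Nat.card ↥(cj x ⁅V, E₁⁆) = Nat.card ↥(⁅V, E₁⁆ : Subgroup G) :=
    (Nat.card_congr (Subgroup.equivMapOfInjective _ _ (MulAut.conj x).injective).toEquiv).symm
  refine ⟨⟨hle.trans d.hEV, eq_bot_iff.mpr (le_trans (inf_le_inf_right _ hle) d.hf.le), rfl,
    d.hs₁.comap (Subgroup.inclusion hle), hs2.comap (Subgroup.inclusion hle), ?_, d.hirr₁, ?_, ?_,
    ?_, d.hc₁, ?_⟩, ?_⟩
  · intro X hX hXs hXp
    refine d.hOp X (hX.trans hle) ?_ hXp
    refine Subgroup.IsSubnormal.trans (K := (E₁ ⊔ cj x E₁).subgroupOf E) (fun y hy => hX hy) ?_ hsn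
    exact hXs.comap (Subgroup.subgroupOfEquivOfLe hle).toMonoidHom
  · rw [hV2]
    intro U hU hUn
    have h1 : cj x⁻¹ U ≤ ⁅V, E₁⁆ := (Subgroup.map_mono hU).trans (le_of_eq (by
      rw [show (cj x ⁅V, E₁⁆).map (MulAut.conj x⁻¹).toMonoidHom = cj x⁻¹ (cj x ⁅V, E₁⁆) from rfl,
        cj_cj, inv_mul_cancel, cj_eq_self (one_mem _)]))
    have h2 : E₁ ≤ normalizer ((cj x⁻¹ U : Subgroup G) : Set G) := by
      have := le_cj_normalizer (x := x⁻¹) hUn
      rwa [cj_cj, inv_mul_cancel, cj_eq_self (one_mem _)] at this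
    have hback : U = cj x (cj x⁻¹ U) := by rw [cj_cj, mul_inv_cancel, cj_eq_self (one_mem _)]
    rcases d.hirr₁ _ h1 h2 with h | h
    · left; rw [hback, h]; exact Subgroup.map_bot _
    · right; rw [hback, h]
  · rw [hV2]
    exact fun h => hmove (Subgroup.eq_of_le_of_card_ge h hcard.le).symm
  · rw [hV2]
    exact fun h => hmove (Subgroup.eq_of_le_of_card_ge h hcard.ge)
  · exact d.hc₁.trans_eq (Nat.card_congr (Subgroup.equivMapOfInjective E₁
      (MulAut.conj x).toMonoidHom (MulAut.conj x).injective).toEquiv)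
  · rcases d.hs₁.lt_normal with h | ⟨K, hK, hEK, hKlt⟩
    · exfalso
      rw [Subgroup.subgroupOf_eq_top] at h
      exact d.h21 (Subgroup.commutator_mono le_rfl (d.le₂.trans h))
    · have hsub : E₁ ⊔ cj x E₁ ≤ K.map E.subtype := by
        refine sup_le (fun y hy => ⟨⟨y, hE1 hy⟩, hEK hy, rfl⟩) fun y hy => ?_
        refine ⟨⟨y, hcle hy⟩, ?_, rfl⟩
        have h1 : (⟨x⁻¹ * y * x, hE1 (mem_cj.mp hy)⟩ : E) ∈ K := hEK (mem_cj.mp hy)
        have h2 := hK.conj_mem _ h1 ⟨x, hx⟩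
        have e : (⟨y, hcle hy⟩ : E) =
            ⟨x, hx⟩ * ⟨x⁻¹ * y * x, hE1 (mem_cj.mp hy)⟩ * ⟨x, hx⟩⁻¹ := Subtype.ext (by
          simp [mul_assoc])
        exact (congrArg (fun t => t ∈ K) e).mpr h2
      refine lt_of_le_of_lt (Nat.card_le_card_of_injective _ (Subgroup.inclusion_injective hsub)) ?_
      rw [← Nat.card_congr (Subgroup.equivMapOfInjective K _ E.subtype_injective).toEquiv]
      refine lt_of_le_of_ne (Subgroup.card_le_card_group K) fun h => hKlt.ne ?_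
      exact Subgroup.eq_top_of_card_eq K h

theorem concl [Finite G] (hV : Cfsg.IsElementaryAbelian p V) :
    ∀ (n : ℕ) {E E₁ E₂ : Subgroup G}, Data p V E E₁ E₂ → Nat.card E = n → Concl V E E₁ E₂ := by
  intro n
  induction n using Nat.strong_induction_on with
  | _ n ih =>
  intro E E₁ E₂ d hn
  set V₁ := ⁅V, E₁⁆ with hV₁
  set V₂ := ⁅V, E₂⁆ with hV₂
  by_cases hA : E₂ ≤ normalizer (V₁ : Set G)
  · exact d.concl_of_normalizes hV hA
  by_cases hA' : E₁ ≤ normalizer (V₂ : Set G)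
  · exact (d.symm.concl_of_normalizes hV hA').symm
  exfalso
  obtain ⟨x, hx, hxm⟩ := SetLike.not_le_iff_exists.mp hA
  obtain ⟨h, hh, hhm⟩ := SetLike.not_le_iff_exists.mp hA'
  have hV2int : V₂ ⊓ cj h V₂ = ⊥ := by
    obtain ⟨d', hlt⟩ := d.symm.conj_pair (d.le₁ hh) fun e => hhm (mem_normalizer_of_cj_eq e)
    have := (ih _ (hn ▸ hlt) d' rfl).2.2.1
    rwa [cj_comm, cj_eq_self (d.hEV (d.le₁ hh))]
  -- `h` fixes every other conjugate of `V₁`
  have hfix : ∀ z ∈ E₂, cj z V₁ ≠ V₁ → ∀ v ∈ V₁, h * (z * v * z⁻¹) * h⁻¹ = z * v * z⁻¹ := by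
    intro z hz hzm v hv
    obtain ⟨d', hlt⟩ := d.conj_pair (d.le₂ hz) hzm
    obtain ⟨hc, -, hint, -⟩ := ih _ (hn ▸ hlt) d' rfl
    have hW : ⁅V, cj z E₁⁆ = cj z V₁ := by rw [cj_comm, cj_eq_self (d.hEV (d.le₂ hz))]
    rw [hW] at hint
    have hcm : ∀ a ∈ cj z E₁, h * a = a * h := fun a ha =>
      commutatorElement_eq_one_iff_mul_comm.mp (by
        rw [← Subgroup.mem_bot, ← hc]; exact Subgroup.commutator_mem_commutator hh ha)
    have hn' : cj h (cj z V₁) = cj z V₁ := by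
      rw [← hW]; exact cj_commutator_eq_of_commute (d.hEV (d.le₁ hh)) hcm
    have hw : z * v * z⁻¹ ∈ cj z V₁ := conj_mem_cj hv
    have hwV : z * v * z⁻¹ ∈ V :=
      (Subgroup.mem_normalizer_iff.mp (d.hEV (d.le₂ hz)) v).mp (d.comm_le hv)
    have h1 : ⁅z * v * z⁻¹, h⁆ ∈ V₁ ⊓ cj z V₁ := ⟨Subgroup.commutator_mem_commutator hwV hh, by
      rw [commutatorElement_def, mul_assoc, mul_assoc, ← mul_assoc h]
      refine mul_mem hw ?_
      have := conj_mem_cj (x := h) (inv_mem hw)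
      rwa [hn'] at this⟩
    rw [hint, Subgroup.mem_bot] at h1
    have h2 := commutatorElement_eq_one_iff_mul_comm.mp h1
    rw [← h2, mul_inv_cancel_right]
  have hdiff : ∀ z ∈ E₂, ∀ v ∈ V₁, v * (z * v * z⁻¹)⁻¹ ∈ V₂ := fun z hz v hv => by
    have := Subgroup.commutator_mem_commutator (d.comm_le hv) hz (H₁ := V) (H₂ := E₂)
    simpa [commutatorElement_def, mul_assoc] using this
  have hcommV : ∀ a ∈ V, ∀ b ∈ V, a * b = b * a := fun a ha b hb => by
    have := hV.1.is_comm.comm ⟨a, ha⟩ ⟨b, hb⟩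
    exact congrArg Subtype.val this
  -- two elements moving `V₁` agree on it
  have hagree : ∀ y ∈ E₂, ∀ z ∈ E₂, cj y V₁ ≠ V₁ → cj z V₁ ≠ V₁ → ∀ v ∈ V₁,
      y * v * y⁻¹ = z * v * z⁻¹ := by
    intro y hy z hz hym hzm v hv
    have h1 : (y * v * y⁻¹) * (z * v * z⁻¹)⁻¹ ∈ V₂ := by
      have := mul_mem (inv_mem (hdiff y hy v hv)) (hdiff z hz v hv)
      simpa [mul_assoc] using this
    have h2 : (y * v * y⁻¹) * (z * v * z⁻¹)⁻¹ ∈ cj h V₂ := by
      have hmem := conj_mem_cj (x := h) h1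
      have e1 := hfix y hy hym v hv
      have e2 := hfix z hz hzm v hv
      have he : h * ((y * v * y⁻¹) * (z * v * z⁻¹)⁻¹) * h⁻¹ =
          (h * (y * v * y⁻¹) * h⁻¹) * (h * (z * v * z⁻¹) * h⁻¹)⁻¹ := by simp [mul_assoc]
      rwa [he, e1, e2] at hmem
    have h3 : (y * v * y⁻¹) * (z * v * z⁻¹)⁻¹ ∈ V₂ ⊓ cj h V₂ := ⟨h1, h2⟩
    rw [hV2int, Subgroup.mem_bot] at h3
    exact mul_inv_eq_one.mp h3
  have hxV1 : cj x V₁ ≠ V₁ := fun e => hxm (mem_normalizer_of_cj_eq e)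
  let S : Subgroup G := E₂ ⊓ normalizer (V₁ : Set G)
  have hmv : ∀ z ∈ E₂, z ∉ S → cj z V₁ ≠ V₁ := fun z hz hzS e =>
    hzS ⟨hz, mem_normalizer_of_cj_eq e⟩
  have hScent : ∀ s ∈ S, ∀ v ∈ V₁, s * v * s⁻¹ = v := by
    intro s hs v hv
    have h1 : cj (x * s) V₁ ≠ V₁ := by rw [← cj_cj, cj_eq_self hs.2]; exact hxV1
    have h2 := hagree _ (mul_mem hx hs.1) x hx h1 hxV1 v hv
    refine mul_left_cancel (a := x) (mul_right_cancel (b := x⁻¹) ?_)
    simpa [mul_assoc] using h2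
  have hidx : ∀ y ∈ E₂, ∀ z ∈ E₂, y ∉ S → z ∉ S → y⁻¹ * z ∈ S := by
    intro y hy z hz hyS hzS
    refine ⟨E₂.mul_mem (E₂.inv_mem hy) hz, mem_normalizer_of_cj_eq ?_⟩
    ext w
    rw [mem_cj]
    constructor
    · intro hw
      have := hagree y hy z hz (hmv y hy hyS) (hmv z hz hzS) _ hw
      have e : w = (y⁻¹ * z)⁻¹ * w * (y⁻¹ * z) := by
        have := congrArg (fun t => y⁻¹ * t * y) this
        simp [mul_assoc] at this
        simpa [mul_assoc] using this.symm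
      rw [e]; exact hw
    · intro hw
      have := hagree y hy z hz (hmv y hy hyS) (hmv z hz hzS) _ hw
      have e : (y⁻¹ * z)⁻¹ * w * (y⁻¹ * z) = w := by
        have := congrArg (fun t => z⁻¹ * t * z) this
        simp [mul_assoc] at this
        simpa [mul_assoc] using this
      rwa [e]
  have hxS : x ∉ S := fun e => hxm e.2
  have hSn : ∀ s ∈ S, ∀ z ∈ E₂, z⁻¹ * s * z ∈ S := by
    intro s hs z hz
    by_cases hzS : z ∈ S
    · exact mul_mem (mul_mem (inv_mem hzS) hs) hzS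
    by_contra hne
    have hzi : z⁻¹ ∉ S := fun e => hzS (by simpa using inv_mem e)
    have h1 := hidx _ (inv_mem hz) _ (mul_mem (mul_mem (inv_mem hz) hs.1) hz) hzi hne
    rw [inv_inv, mul_assoc, mul_inv_cancel_left] at h1
    exact hzS (by simpa using mul_mem (inv_mem hs) h1)
  -- `S` centralizes `V₂`
  obtain ⟨v, hv, hvne⟩ : ∃ v ∈ V₁, v * (x * v * x⁻¹)⁻¹ ≠ 1 := by
    by_contra hall
    push Not at hall
    refine hxV1 (le_antisymm (fun w hw => ?_) fun w hw => ?_)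
    · have h1 := mem_cj.mp hw
      have := mul_inv_eq_one.mp (hall _ h1)
      have e : w = x⁻¹ * w * x := by simpa [mul_assoc] using this.symm
      rw [e]; exact h1
    · rw [mul_inv_eq_one.mp (hall w hw)]
      exact conj_mem_cj hw
  have hSt : ∀ s ∈ S, s ∈ centralizer (V₂ : Set G) := by
    have hU : V₂ ⊓ centralizer (S : Set G) = V₂ := by
      refine (d.hirr₂ _ inf_le_left ?_).resolve_left fun e => hvne ?_
      · intro z hz
        refine Subgroup.mem_normalizer_iff''.mpr fun w => ?_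
        have hz2 : z ∈ normalizer (V₂ : Set G) := Subgroup.normalizer_commutator_ge_right _ _ hz
        refine and_congr (Subgroup.mem_normalizer_iff''.mp hz2 w) ?_
        show w ∈ centralizer (S : Set G) ↔ z⁻¹ * w * z ∈ centralizer (S : Set G)
        simp only [Subgroup.mem_centralizer_iff]
        constructor
        · intro hw s hs
          have := hw _ (by simpa using hSn s hs z⁻¹ (inv_mem hz) : z * s * z⁻¹ ∈ S)
          have := congrArg (fun t => z⁻¹ * t * z) this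
          simpa [mul_assoc] using this
        · intro hw s hs
          have := hw _ (hSn s hs z hz)
          have := congrArg (fun t => z * t * z⁻¹) this
          simpa [mul_assoc] using this
      · rw [← Subgroup.mem_bot, ← e]
        refine ⟨hdiff x hx v hv, ?_⟩
        show _ ∈ centralizer (S : Set G)
        rw [Subgroup.mem_centralizer_iff]
        intro s hs
        have e1 := hScent s hs v hv
        have e2 := hScent _ (hSn s hs x hx) v hv
        have c1 : Commute s v := by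
          show s * v = v * s
          have := congrArg (· * s) e1; simpa using this
        have c2 : Commute s (x * v * x⁻¹) := by
          have := congrArg (fun t => x * t * x⁻¹ * s) e2
          simpa [Commute, SemiconjBy, mul_assoc] using this
        exact (c1.mul_right c2.inv_right).eq
    intro s hs
    rw [Subgroup.mem_centralizer_iff]
    intro w hw
    have hw : w ∈ V₂ ⊓ centralizer (S : Set G) := hU.symm ▸ hw
    exact (Subgroup.mem_centralizer_iff.mp hw.2 s hs).symm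
  -- hence `S = 1` and `|E₂| ≤ 2`
  have hSbot : ∀ s ∈ S, s = 1 := by
    have hp : IsPGroup p S := fun y => ⟨1, Subtype.ext (by
      have h1 : (y : G) ^ p ∈ E ⊓ centralizer (V : Set G) :=
        ⟨pow_mem (d.le₂ y.2.1) p, pow_mem_centralizer hV d.symm.comm_le (hSt _ y.2)
          ⟨d.hEV (d.le₂ y.2.1), Subgroup.normalizer_commutator_ge_right _ _ y.2.1,
            fun v hv => Subgroup.commutator_mem_commutator hv y.2.1⟩⟩
      rw [d.hf, Subgroup.mem_bot] at h1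
      simpa using h1)⟩
    have hn2 : (S.subgroupOf E₂).Normal := ⟨fun n hn g => by
      have := hSn (n : G) hn (g : G)⁻¹ (inv_mem g.2)
      simpa [Subgroup.mem_subgroupOf] using this⟩
    have hb := d.hOp S (inf_le_left.trans d.le₂)
      (Subgroup.IsSubnormal.trans (K := E₂.subgroupOf E) (fun y hy => hy.1)
        (hn2.isSubnormal.comap (Subgroup.subgroupOfEquivOfLe d.le₂).toMonoidHom) d.hs₂) hp
    intro s hs
    rwa [hb, Subgroup.mem_bot] at hs
  have hsmall : (E₂ : Set G) ⊆ {1, x} := fun z hz => by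
    by_cases hzS : z ∈ S
    · exact Or.inl (hSbot z hzS)
    · exact Or.inr (inv_mul_eq_one.mp (hSbot _ (hidx x hx z hz hxS hzS))).symm
  have := d.hc₂
  have hle2 : Nat.card E₂ ≤ 2 := (Set.ncard_le_ncard hsmall).trans
    ((Set.ncard_insert_le _ _).trans (by simp))
  omega

end CfsgLib.IrredSubnormal
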